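import Groth.Prelude.Def_CohDer
import Mathlib.CategoryTheory.Triangulated.Subcategory
import Mathlib.CategoryTheory.Adjunction.Additive
import Mathlib.CategoryTheory.Limits.Preserves.Shapes.Products

/-!
Helper lemmas on (pre)triangulated categories: orthogonals, compact objects, idempotents.
-/

set_option autoImplicit false
set_option linter.unusedSectionVars false
set_option linter.unusedSimpArgs false
universe v u v' u'

namespace Groth.Agent.CohDerTri

open CategoryTheory Limits Pretriangulated Triangulated ZeroObject ObjectProperty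


section compact
variable {D : Type u} [Category.{v} D] [Preadditive D] [HasCoproducts.{v} D]
open CohDer

lemma homSum_of (K : D) {ι : Type v} [DecidableEq ι] (X : ι → D) (i : ι) (f : K ⟶ X i) :
    homSumToHomCoprod K X (DirectSum.of (fun i => K ⟶ X i) i f) = f ≫ Sigma.ι X i := by
  classical
  simp only [homSumToHomCoprod]
  convert DirectSum.toAddMonoid_of (fun i => Preadditive.rightComp K (Sigma.ι X i)) i f
  rfl

/-- precomposition on direct sums of hom groups -/
noncomputable def precompSum {K K' : D} (w : K' ⟶ K) {ι : Type v} (X : ι → D) :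
    DirectSum ι (fun i => K ⟶ X i) →+ DirectSum ι (fun i => K' ⟶ X i) :=
  DirectSum.map fun i => Preadditive.leftComp (X i) w

lemma precompSum_apply {K K' : D} (w : K' ⟶ K) {ι : Type v} (X : ι → D) (x : DirectSum ι (fun i => K ⟶ X i)) (i : ι) :
    precompSum w X x i = w ≫ x i := by
  simp [precompSum]
  rfl

lemma homSum_precomp {K K' : D} (w : K' ⟶ K) {ι : Type v} (X : ι → D) (x : DirectSum ι (fun i => K ⟶ X i)) :
    homSumToHomCoprod K' X (precompSum w X x) = w ≫ homSumToHomCoprod K X x := by
  classical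
  induction x using DirectSum.induction_on with
  | zero => simp
  | of i f =>
    rw [precompSum, DirectSum.map_of, homSum_of, homSum_of]
    exact Category.assoc _ _ _
  | add x y hx hy => simp [map_add, hx, hy]

lemma exists_precompSum_eq {K K' : D} (w : K' ⟶ K) {ι : Type v} (X : ι → D) (x : DirectSum ι (fun i => K' ⟶ X i))
    (h : ∀ i, ∃ y : K ⟶ X i, x i = w ≫ y) : ∃ y, precompSum w X y = x := by
  classical
  choose y hy using h
  refine ⟨DirectSum.mk _ (DFinsupp.support x) fun i => y i.1, ?_⟩
  ext i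
  rw [precompSum_apply]
  by_cases hi : i ∈ DFinsupp.support x
  · rw [DirectSum.mk_apply_of_mem hi, hy i]
  · rw [DirectSum.mk_apply_of_notMem hi, DFinsupp.notMem_support_iff.1 hi, comp_zero]

theorem isCompactObject_of_adjunction {D' : Type u'} [Category.{v} D'] [Preadditive D'] [HasCoproducts.{v} D']
    {L : D ⥤ D'} {R : D' ⥤ D} [L.Additive] (adj : L ⊣ R)
    [∀ κ : Type v, PreservesColimitsOfShape (Discrete κ) R] {K : D} (hK : IsCompactObject K) :
    IsCompactObject (L.obj K) := by
  classical
  intro ι X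
  let e : DirectSum ι (fun i => L.obj K ⟶ X i) ≃+ DirectSum ι (fun i => K ⟶ R.obj (X i)) :=
    DFinsupp.mapRange.addEquiv fun i => adj.homAddEquiv K (X i)
  have key : ∀ x, adj.homEquiv K (∐ X) (homSumToHomCoprod (L.obj K) X x) =
      homSumToHomCoprod K (fun i => R.obj (X i)) (e x) ≫ sigmaComparison R X := by
    intro x
    induction x using DirectSum.induction_on with
    | zero => simp [Adjunction.homAddEquiv_zero]
    | of i f =>
      have he : e (DirectSum.of _ i f) = DirectSum.of (fun i => K ⟶ R.obj (X i)) i (adj.homEquiv K (X i) f) :=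
        DFinsupp.mapRange_single (hf := fun j => map_zero (adj.homAddEquiv K (X j)))
      rw [he, homSum_of, homSum_of, Adjunction.homEquiv_naturality_right, Category.assoc, ι_comp_sigmaComparison]
    | add x y hx hy =>
      show adj.homAddEquiv K (∐ X) _ = _
      simp only [map_add, Preadditive.add_comp]
      rw [Adjunction.homAddEquiv_apply, Adjunction.homAddEquiv_apply, hx, hy]
  refine ⟨fun x y hxy => e.injective ((hK ι _).1 ?_), fun v => ?_⟩
  · rw [← cancel_mono (sigmaComparison R X), ← key, ← key, hxy]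
  · obtain ⟨z, hz⟩ := (hK ι _).2 (adj.homEquiv K _ v ≫ inv (sigmaComparison R X))
    refine ⟨e.symm z, (adj.homEquiv K _).injective ?_⟩
    rw [key, e.apply_symm_apply, hz]
    simp

end compact

variable {D : Type u} [Category.{v} D] [Preadditive D] [HasZeroObject D] [HasShift D ℤ]
    [∀ n : ℤ, (shiftFunctor D n).Additive] [Pretriangulated D]

section
variable [HasCoproducts.{v} D]
open CohDer

lemma isCompactObject_shift {K : D} (hK : IsCompactObject K) (n : ℤ) : IsCompactObject (K⟦n⟧) :=
  haveI : (shiftEquiv D n).functor.Additive := inferInstanceAs (shiftFunctor D n).Additive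
  isCompactObject_of_adjunction (shiftEquiv D n).toAdjunction (R := shiftFunctor D (-n)) hK

lemma isCompactObject_of_iso {K K' : D} (e : K ≅ K') (hK : IsCompactObject K) : IsCompactObject K' := by
  intro ι X
  refine ⟨fun x y h => ?_, fun v => ?_⟩
  · ext i
    have h1 : precompSum e.hom X x = precompSum e.hom X y := (hK ι X).1 (by rw [homSum_precomp, homSum_precomp, h])
    have := congrArg (fun z => z i) h1
    simp only [precompSum_apply] at this
    exact (cancel_epi e.hom).1 this
  · obtain ⟨x, hx⟩ := (hK ι X).2 (e.hom ≫ v)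
    exact ⟨precompSum e.inv X x, by rw [homSum_precomp, hx, Iso.inv_hom_id_assoc]⟩

lemma isCompactObject_of_isZero {K : D} (hK : IsZero K) : IsCompactObject K := fun ι X =>
  ⟨fun x y _ => DFinsupp.ext fun i => hK.eq_of_src _ _, fun v => ⟨0, hK.eq_of_src _ _⟩⟩

lemma isCompactObject_ext₂ (T : Triangle D) (hT : T ∈ distinguishedTriangles)
    (h₁ : IsCompactObject T.obj₁) (h₃ : IsCompactObject T.obj₃) : IsCompactObject T.obj₂ := by
  intro ι X
  refine ⟨(injective_iff_map_eq_zero _).2 fun x hx => ?_, fun v => ?_⟩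
  · have h0 : precompSum T.mor₁ X x = 0 := (h₁ ι X).1 (by rw [homSum_precomp, hx, comp_zero, map_zero])
    obtain ⟨y, hy⟩ := exists_precompSum_eq T.mor₂ X x fun i => Triangle.yoneda_exact₂ T hT (x i) (by
      have := congrArg (fun z => z i) h0
      simpa [precompSum_apply] using this)
    obtain ⟨e, he⟩ := Triangle.yoneda_exact₃ T hT (homSumToHomCoprod _ X y)
      (by rw [← homSum_precomp, hy, hx])
    obtain ⟨z, rfl⟩ := (isCompactObject_shift h₁ 1 ι X).2 e
    obtain rfl : y = precompSum T.mor₃ X z := (h₃ ι X).1 (by rw [homSum_precomp, he])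
    refine hy.symm.trans (DFinsupp.ext fun i => ?_)
    rw [precompSum_apply, precompSum_apply, comp_distTriang_mor_zero₂₃_assoc T hT, zero_comp]
    rfl
  · obtain ⟨a, ha⟩ := (h₁ ι X).2 (T.mor₁ ≫ v)
    have hi := inv_rot_of_distTriang T hT
    let w : T.obj₃⟦(-1 : ℤ)⟧ ⟶ T.obj₁ := T.invRotate.mor₁
    have h31 : w ≫ T.mor₁ = 0 := comp_distTriang_mor_zero₁₂ _ hi
    have h0 : precompSum w X a = 0 := (isCompactObject_shift h₃ (-1) ι X).1 (by
      rw [homSum_precomp, ha, reassoc_of% h31, zero_comp, map_zero])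
    obtain ⟨b, hb⟩ := exists_precompSum_eq T.mor₁ X a fun i => Triangle.yoneda_exact₂ _ hi (a i) (by
      have := congrArg (fun z => z i) h0
      rw [precompSum_apply] at this
      exact this)
    obtain ⟨c, hc⟩ := Triangle.yoneda_exact₂ T hT (v - homSumToHomCoprod _ X b)
      (by rw [Preadditive.comp_sub, ← homSum_precomp, hb, ha, sub_self])
    obtain ⟨c, rfl⟩ := (h₃ ι X).2 c
    exact ⟨b + precompSum T.mor₂ X c, by rw [map_add, homSum_precomp, ← hc, add_sub_cancel]⟩

theorem s0475 : ObjectProperty.IsTriangulated (fun K : D => CohDer.IsCompactObject K) :=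
  letI P : ObjectProperty D := fun K => CohDer.IsCompactObject K
  haveI : P.IsClosedUnderIsomorphisms := ⟨isCompactObject_of_iso⟩
  { toContainsZero := ⟨0, isZero_zero D, isCompactObject_of_isZero (isZero_zero D)⟩
    isStableUnderShiftBy := fun n => ⟨fun K hK => isCompactObject_shift hK n⟩
    toIsTriangulatedClosed₂ := IsTriangulatedClosed₂.mk' (P := P) isCompactObject_ext₂ }

omit [HasCoproducts.{v} D] in
open CohDer in
theorem s7881 {ι : Type v} (S : ι → D) (hS : Generates S) {X Y : D} (f : X ⟶ Y) : IsIso f ↔ ∀ (i : ι) (n : ℤ), Function.Bijective (fun g : S i ⟶ (shiftFunctor D n).obj X => g ≫ (shiftFunctor D n).map f) := by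
  refine ⟨fun _ i n => ?_, fun h => ?_⟩
  · exact ((asIso (f⟦n⟧')).homToEquiv (Z := S i)).bijective
  obtain ⟨Z, g, k, hT⟩ := distinguished_cocone_triangle f
  refine (Triangle.isZero₃_iff_isIso₁ _ hT).1 (hS Z fun i n u => ?_)
  have h31 : k ≫ f⟦(1 : ℤ)⟧' = 0 := comp_distTriang_mor_zero₃₁ _ hT
  have h12 : f ≫ g = 0 := comp_distTriang_mor_zero₁₂ _ hT
  have h0 : u ≫ k⟦n⟧' = 0 := by
    let e := shiftFunctorAdd' D (1 : ℤ) n (1 + n) rfl
    have : u ≫ k⟦n⟧' ≫ e.inv.app X = 0 := (h i (1 + n)).1 <| by
      dsimp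
      rw [zero_comp, Category.assoc, Category.assoc, ← e.inv.naturality f]
      dsimp
      rw [← Functor.map_comp_assoc, h31]
      simp
    rw [← cancel_mono (e.inv.app X), zero_comp, Category.assoc]
    exact this
  obtain ⟨w, hw⟩ := Triangle.coyoneda_exact₃ _ (Triangle.shift_distinguished _ hT n) u
    (show u ≫ (n.negOnePow • k⟦n⟧' ≫ (shiftFunctorComm D 1 n).hom.app X) = 0 by
      rw [Linear.comp_units_smul, reassoc_of% h0]; simp)
  obtain ⟨t, ht⟩ := (h i n).2 w
  rw [hw, ← ht]
  show (t ≫ f⟦n⟧') ≫ (n.negOnePow • g⟦n⟧') = 0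
  rw [Linear.comp_units_smul, Category.assoc, ← Functor.map_comp, h12]
  simp

end

end Groth.Agent.CohDerTri
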