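import Mathlib.CategoryTheory.Triangulated.TStructure.TruncLTGE
import Mathlib.CategoryTheory.Triangulated.Orthogonal

/-!
Helper lemmas on (pre)triangulated categories: orthogonals, compact objects, idempotents.
-/

set_option autoImplicit false
set_option linter.unusedSectionVars false
set_option linter.unusedSimpArgs false
universe v u v' u'

namespace Groth.Agent.CohDerTri

open CategoryTheory Limits Pretriangulated Triangulated ZeroObject


variable {D : Type u} [Category.{v} D] [Preadditive D] [HasZeroObject D] [HasShift D ℤ]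
    [∀ n : ℤ, (shiftFunctor D n).Additive] [Pretriangulated D]

theorem s1043 (T T' : Triangle D) (hT : T ∈ distinguishedTriangles) (hT' : T' ∈ distinguishedTriangles)
    (φ ψ : T ⟶ T') (h₁ : φ.hom₁ = ψ.hom₁) (h₃ : φ.hom₃ = ψ.hom₃)
    (hc : (∀ u : T.obj₂ ⟶ T'.obj₁, u = 0) ∨ (∀ u : T.obj₃ ⟶ T'.obj₂, u = 0) ∨
      ((∀ u : T.obj₁ ⟶ T'.obj₁, u = 0) ∧ (∀ u : T.obj₃ ⟶ T'.obj₁, u = 0)) ∨
      ((∀ u : T.obj₃ ⟶ T'.obj₁, u = 0) ∧ (∀ u : T.obj₃ ⟶ T'.obj₃, u = 0)) ∨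
      ((∀ u : (shiftFunctor D (1 : ℤ)).obj T.obj₁ ⟶ T'.obj₃, u = 0) ∧ (∀ u : T.obj₃ ⟶ T'.obj₁, u = 0))) :
    φ.hom₂ = ψ.hom₂ := by
  have hl : T.mor₁ ≫ (φ.hom₂ - ψ.hom₂) = 0 := by
    rw [Preadditive.comp_sub, φ.comm₁, ψ.comm₁, h₁, sub_self]
  have hr : (φ.hom₂ - ψ.hom₂) ≫ T'.mor₂ = 0 := by
    rw [Preadditive.sub_comp, ← φ.comm₂, ← ψ.comm₂, h₃, sub_self]
  obtain ⟨a, ha⟩ := Triangle.yoneda_exact₂ T hT _ hl
  obtain ⟨b, hb⟩ := Triangle.coyoneda_exact₂ T' hT' _ hr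
  rw [← sub_eq_zero]
  rcases hc with h | h | ⟨h, h'⟩ | ⟨h, h'⟩ | ⟨h, h'⟩
  · rw [hb, h b, zero_comp]
  · rw [ha, h a, comp_zero]
  · obtain ⟨c, hc⟩ := Triangle.yoneda_exact₂ T hT b (h _)
    rw [hb, hc, h' c, comp_zero, zero_comp]
  · obtain ⟨c, hc⟩ := Triangle.coyoneda_exact₂ T' hT' a (h' _)
    rw [ha, hc, h c, zero_comp, comp_zero]
  · obtain ⟨e, he⟩ := Triangle.yoneda_exact₃ T hT (a ≫ T'.mor₂) (by rw [← Category.assoc, ← ha, hr])
    obtain ⟨c, hc⟩ := Triangle.coyoneda_exact₂ T' hT' a (by rw [he, h e, comp_zero])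
    rw [ha, hc, h' c, zero_comp, comp_zero]

lemma inj_comp_of_inv (T : Triangle D) (hT : T ∈ distinguishedTriangles) {A : D}
    (h : ∀ u : A ⟶ T.obj₃⟦(-1 : ℤ)⟧, u = 0) :
    Function.Injective (fun u : A ⟶ T.obj₁ => u ≫ T.mor₁) := by
  intro u u' huu
  dsimp at huu
  obtain ⟨e, he⟩ := Triangle.coyoneda_exact₂ _ (inv_rot_of_distTriang T hT) (u - u')
    (show (u - u') ≫ T.mor₁ = 0 by rw [Preadditive.sub_comp, huu, sub_self])
  obtain rfl : e = 0 := h e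
  exact sub_eq_zero.1 (he.trans zero_comp)

lemma zero_of_shift_zero {A B : D} (h : ∀ u : A ⟶ B⟦(-1 : ℤ)⟧, u = 0) (f : A⟦(1 : ℤ)⟧ ⟶ B) : f = 0 := by
  apply (shiftFunctor D (-1 : ℤ)).map_injective
  rw [Functor.map_zero]
  have e := (shiftFunctorCompIsoId D (1 : ℤ) (-1) (by lia)).app A
  rw [← cancel_epi e.inv, comp_zero]
  exact h _

theorem s15557 (T T' : Triangle D) (hT : T ∈ distinguishedTriangles) (hT' : T' ∈ distinguishedTriangles) (hXZ : ∀ u : T.obj₁ ⟶ T'.obj₃, u = 0) (hXZ' : ∀ u : T.obj₁ ⟶ (shiftFunctor D (-1 : ℤ)).obj T'.obj₃, u = 0) : Function.Bijective (fun u : T.obj₁ ⟶ T'.obj₁ => u ≫ T'.mor₁) ∧ Function.Bijective (fun w : T.obj₃ ⟶ T'.obj₃ => T.mor₂ ≫ w) := by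
  refine ⟨⟨inj_comp_of_inv T' hT' hXZ', fun v => ?_⟩, ⟨fun w w' hw => ?_, fun w => ?_⟩⟩
  · obtain ⟨u, hu⟩ := Triangle.coyoneda_exact₂ T' hT' v (hXZ _)
    exact ⟨u, hu.symm⟩
  · dsimp at hw
    obtain ⟨e, he⟩ := Triangle.yoneda_exact₃ T hT (w - w') (by rw [Preadditive.comp_sub, hw, sub_self])
    rw [← sub_eq_zero, he, zero_of_shift_zero hXZ' e, comp_zero]
  · obtain ⟨u, hu⟩ := Triangle.yoneda_exact₂ T hT w (hXZ _)
    exact ⟨u, hu.symm⟩

theorem s6600 [IsTriangulated D] (P : ObjectProperty D) [P.IsStableUnderShift ℤ] (T : Triangle D) (hT : T ∈ distinguishedTriangles) : P.rightOrthogonal T.obj₃ ↔ ∀ A : D, P A → Function.Bijective (fun u : A ⟶ T.obj₁ => u ≫ T.mor₁) := by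
  constructor
  · intro h A hA
    refine ⟨inj_comp_of_inv T hT fun u => (P.rightOrthogonal.le_shift (-1 : ℤ) _ h) u hA, fun v => ?_⟩
    obtain ⟨u, hu⟩ := Triangle.coyoneda_exact₂ T hT v (h _ hA)
    exact ⟨u, hu.symm⟩
  · intro h A f hA
    have h0 : f ≫ T.mor₃ = 0 := by
      let i := (shiftFunctorCompIsoId D (-1 : ℤ) 1 (by lia)).app A
      obtain ⟨k, hk⟩ := (shiftFunctor D (1 : ℤ)).map_surjective (i.hom ≫ f ≫ T.mor₃)
      have : k = 0 := (h _ (P.le_shift (-1 : ℤ) _ hA)).1 <| by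
        dsimp
        rw [zero_comp]
        apply (shiftFunctor D (1 : ℤ)).map_injective
        rw [Functor.map_comp, hk, Functor.map_zero, Category.assoc, Category.assoc,
          comp_distTriang_mor_zero₃₁ T hT, comp_zero]
        exact comp_zero
      rw [← cancel_epi i.hom, ← hk, this, Functor.map_zero, comp_zero]
    obtain ⟨e, he⟩ := Triangle.coyoneda_exact₃ T hT f h0
    obtain ⟨u, hu⟩ := (h A hA).2 e
    rw [he, ← hu, Category.assoc, comp_distTriang_mor_zero₁₂ T hT, comp_zero]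

theorem s6601 [IsTriangulated D] (P : ObjectProperty D) [P.IsStableUnderShift ℤ] (T : Triangle D) (hT : T ∈ distinguishedTriangles) : P.leftOrthogonal T.obj₁ ↔ ∀ B : D, P B → Function.Bijective (fun u : T.obj₃ ⟶ B => T.mor₂ ≫ u) := by
  constructor
  · intro h B hB
    refine ⟨fun w w' hw => ?_, fun w => ?_⟩
    · dsimp at hw
      obtain ⟨e, he⟩ := Triangle.yoneda_exact₃ T hT (w - w') (by rw [Preadditive.comp_sub, hw, sub_self])
      rw [← sub_eq_zero, he, (P.leftOrthogonal.le_shift (1 : ℤ) _ h) e hB, comp_zero]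
    · obtain ⟨u, hu⟩ := Triangle.yoneda_exact₂ T hT w (h _ hB)
      exact ⟨u, hu.symm⟩
  · intro h B f hB
    have h0 : T.mor₃ ≫ f⟦(1 : ℤ)⟧' = 0 := (h _ (P.le_shift (1 : ℤ) _ hB)).1 <| by
      simp [comp_distTriang_mor_zero₂₃_assoc T hT]
    obtain ⟨e, he⟩ := Triangle.yoneda_exact₂ _ (rot_of_distTriang _ (rot_of_distTriang T hT))
      (f⟦(1 : ℤ)⟧') h0
    obtain ⟨k, hk⟩ := (shiftFunctor D (1 : ℤ)).map_surjective (X := T.obj₂) (Y := B) e
    obtain ⟨u, hu⟩ := (h B hB).2 k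
    apply (shiftFunctor D (1 : ℤ)).map_injective
    dsimp at hu
    rw [Functor.map_zero]
    erw [he, ← hk]
    rw [← hu]
    show (-(T.mor₁⟦(1 : ℤ)⟧')) ≫ (T.mor₂ ≫ u)⟦(1 : ℤ)⟧' = 0
    rw [Preadditive.neg_comp, ← Functor.map_comp, comp_distTriang_mor_zero₁₂_assoc T hT]
    simp

theorem s6608 (S : MorphismProperty D) [S.ContainsIdentities] [S.IsCompatibleWithTriangulation] {X Y : D} (f : X ⟶ Y) [IsIso f] : S f := by
  have h1 : Triangle.mk (0 : (0 : D) ⟶ X) (𝟙 X) 0 ∈ distinguishedTriangles := contractible_distinguished₁ X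
  have h2 : Triangle.mk (0 : (0 : D) ⟶ X) f 0 ∈ distinguishedTriangles :=
    isomorphic_distinguished _ h1 _ (Triangle.isoMk _ _ (Iso.refl _) (Iso.refl _) (asIso f).symm
      ((Category.comp_id _).trans (Category.id_comp _).symm)
      ((IsIso.hom_inv_id f).trans (Category.id_comp _).symm)
      (zero_comp.trans comp_zero.symm))
  obtain ⟨c, hc, h3, -⟩ := MorphismProperty.IsCompatibleWithTriangulation.compatible_with_triangulation (W := S)
    _ _ h1 h2 (𝟙 _) (𝟙 _) (S.id_mem _) (S.id_mem _) ((Category.comp_id _).trans (Category.id_comp _).symm)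
  have h4 : c = f := ((Category.id_comp c).symm.trans h3).trans (Category.id_comp f)
  exact h4 ▸ hc

theorem s6609 (S : MorphismProperty D) [S.IsMultiplicative] [S.IsCompatibleWithTriangulation] : (∀ {X Y X' : D} (f : X ⟶ Y) (t : X ⟶ X'), S t → ∃ (Y' : D) (f' : X' ⟶ Y') (s' : Y ⟶ Y'), S s' ∧ f ≫ s' = t ≫ f') ∧ (∀ {X Y Y' : D} (f : X ⟶ Y) (s : Y' ⟶ Y), S s → ∃ (X' : D) (f' : X' ⟶ Y') (t' : X' ⟶ X), S t' ∧ t' ≫ f = f' ≫ s) := by
  refine ⟨fun {X Y X'} f t ht => ?_, fun {X Y Y'} f s hs => ?_⟩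
  · obtain ⟨W, g, h, hT⟩ := distinguished_cocone_triangle₁ f
    obtain ⟨Y', f', h', hT'⟩ := distinguished_cocone_triangle (g ≫ t)
    obtain ⟨c, hc, h2, -⟩ := MorphismProperty.IsCompatibleWithTriangulation.compatible_with_triangulation (W := S)
      _ _ hT hT' (𝟙 W) t (S.id_mem W) ht (Category.id_comp _).symm
    exact ⟨Y', f', c, hc, h2⟩
  · obtain ⟨Z, g, h, hT⟩ := distinguished_cocone_triangle f
    obtain ⟨X', f', h', hT'⟩ := distinguished_cocone_triangle₁ (s ≫ g)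
    obtain ⟨c, hc, h2, h3⟩ := MorphismProperty.IsCompatibleWithTriangulation.compatible_with_triangulation (W := S)
      _ _ (rot_of_distTriang _ hT') (rot_of_distTriang _ hT) s (𝟙 Z) hs (S.id_mem Z) (Category.comp_id _)
    obtain ⟨k, rfl⟩ := (shiftFunctor D (1 : ℤ)).map_surjective (X := X') (Y := X) c
    refine ⟨X', f', k, (MorphismProperty.IsCompatibleWithShift.iff S k (1 : ℤ)).1 hc, ?_⟩
    apply (shiftFunctor D (1 : ℤ)).map_injective
    simp at h3 ⊢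
    exact (neg_inj.1 ((Preadditive.neg_comp _ _).symm.trans (h3.trans (Preadditive.comp_neg _ _)))).symm

theorem s11143 {S : Type u} [Category.{v} S] [Limits.HasZeroObject S] [Preadditive S] [HasShift S ℤ] [∀ n : ℤ, (shiftFunctor S n).Additive] [Pretriangulated S] {T : Type u'} [Category.{v'} T] [Limits.HasZeroObject T] [Preadditive T] [HasShift T ℤ] [∀ n : ℤ, (shiftFunctor T n).Additive] [Pretriangulated T] (tS : TStructure S) (tT : TStructure T) (F : S ⥤ T) [F.CommShift ℤ] [F.IsTriangulated] (G : T ⥤ S) (adj : F ⊣ G) (d : ℤ) (hF : ∀ X : S, tS.IsLE X 0 → tT.IsLE (F.obj X) d) (Y : T) (hY : tT.IsGE Y 0) : tS.IsGE (G.obj Y) (-d) := by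
  rw [tS.isGE_iff_orthogonal (-d - 1) (-d) (by lia)]
  intro X f hX
  have h1 := tS.isLE_shift X (-d - 1) (-d - 1) 0 (by lia)
  have h2 := hF _ h1
  have : tT.IsLE ((shiftFunctor S (-d - 1) ⋙ F).obj X) d := h2
  have h3 : tT.IsLE ((F.obj X)⟦(-d - 1)⟧) d := tT.isLE_of_iso ((F.commShiftIso (-d - 1)).app X) d
  have h4 : tT.IsLE (F.obj X) (-1) := (tT.isLE_shift_iff (F.obj X) (-1) (-d - 1) d (by lia)).1 h3
  apply (adj.homEquiv X Y).symm.injective
  rw [tT.zero ((adj.homEquiv X Y).symm f) (-1) 0 (by lia)]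
  simp [Adjunction.homEquiv_counit]

end Groth.Agent.CohDerTri
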