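import Groth.Agent.CohDerTri.Compact
import Groth.Agent.Brown.Apply
import Mathlib.CategoryTheory.Triangulated.Generators
import Mathlib.CategoryTheory.Triangulated.Orthogonal

/-!
Compact objects mapping into a system built from cells factor through the envelope of finitely
many cells; generators are classical generators of the compact objects.
-/

set_option autoImplicit false
set_option linter.unusedSectionVars false
universe v u

namespace Groth.Agent.CohDerTri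

open CategoryTheory Limits Pretriangulated Triangulated ZeroObject ObjectProperty

variable {D : Type u} [Category.{v} D] [Preadditive D] [HasZeroObject D] [HasShift D ℤ]
  [∀ n : ℤ, (shiftFunctor D n).Additive] [Pretriangulated D] [IsTriangulated D]
  [HasCoproducts.{v} D] {ι : Type v} (E : ι → D)

/-- the members of the family indexed by a finite set -/
def finFam (s : Finset ι) : ObjectProperty D := fun Y => ∃ i ∈ s, Y = E i

/-- compact objects in the envelope of finitely many members -/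
def EnvC (s : Finset ι) (W : D) : Prop :=
  (finFam E s).triangEnvelope W ∧ CohDer.IsCompactObject W

/-- factors through a compact object in the envelope of finitely many members -/
def Fac {C Z : D} (φ : C ⟶ Z) : Prop :=
  ∃ (s : Finset ι) (_ : s.Nonempty) (W : D) (g : C ⟶ W) (h : W ⟶ Z), EnvC E s W ∧ g ≫ h = φ

variable {E}

lemma nonempty_finFam {s : Finset ι} (hs : s.Nonempty) : (finFam E s).Nonempty :=
  ⟨⟨E hs.choose, hs.choose, hs.choose_spec, rfl⟩⟩

lemma EnvC.mono {s t : Finset ι} (h : s ⊆ t) {W : D} (hW : EnvC E s W) : EnvC E t W :=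
  ⟨monotone_triangEnvelope (fun _ ⟨i, hi, e⟩ => ⟨i, h hi, e⟩) _ hW.1, hW.2⟩

lemma envC_biprod {s : Finset ι} (hs : s.Nonempty) {W W' : D}
    (hW : EnvC E s W) (hW' : EnvC E s W') : EnvC E s (W ⊞ W') := by
  have := nonempty_finFam (E := E) hs
  have := s0475 (D := D)
  exact ⟨(finFam E s).triangEnvelope.ext_of_isTriangulatedClosed₂ _
      (binaryBiproductTriangle_distinguished W W') hW.1 hW'.1,
    isCompactObject_ext₂ _ (binaryBiproductTriangle_distinguished W W') hW.2 hW'.2⟩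

lemma envC_ext₃ {s : Finset ι} (hs : s.Nonempty) (T : Triangle D) (hT : T ∈ distTriang D)
    (h₁ : EnvC E s T.obj₁) (h₂ : EnvC E s T.obj₂) : EnvC E s T.obj₃ := by
  have := nonempty_finFam (E := E) hs
  have := s0475 (D := D)
  have : ObjectProperty.IsClosedUnderIsomorphisms (fun K : D => CohDer.IsCompactObject K) :=
    ⟨isCompactObject_of_iso⟩
  exact ⟨(finFam E s).triangEnvelope.ext_of_isTriangulatedClosed₃ T hT h₁.1 h₂.1,
    ObjectProperty.ext_of_isTriangulatedClosed₃ (fun K : D => CohDer.IsCompactObject K) T hT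
      h₁.2 h₂.2⟩

lemma envC_shift {s : Finset ι} {W : D} (hW : EnvC E s W) (n : ℤ) : EnvC E s (W⟦n⟧) :=
  ⟨(finFam E s).triangEnvelope.le_shift n _ hW.1, isCompactObject_shift hW.2 n⟩

variable [Nonempty ι]

lemma fac_zero (hc : ∀ i, CohDer.IsCompactObject (E i)) {C Z : D} : Fac E (0 : C ⟶ Z) :=
  let i := Classical.arbitrary ι
  ⟨{i}, Finset.singleton_nonempty i, E i, 0, 0,
    ⟨le_triangEnvelope _ _ ⟨i, Finset.mem_singleton_self i, rfl⟩, hc i⟩, zero_comp⟩

lemma fac_add {C Z : D} {φ φ' : C ⟶ Z} (h₁ : Fac E φ) (h₂ : Fac E φ') : Fac E (φ + φ') := by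
  classical
  obtain ⟨s, hs, W, g, h, hW, rfl⟩ := h₁
  obtain ⟨s', hs', W', g', h', hW', rfl⟩ := h₂
  exact ⟨s ∪ s', hs.mono Finset.subset_union_left, W ⊞ W', biprod.lift g g', biprod.desc h h',
    envC_biprod (hs.mono Finset.subset_union_left) (hW.mono Finset.subset_union_left)
      (hW'.mono Finset.subset_union_right), biprod.lift_desc⟩

lemma fac_sigma (hc : ∀ i, CohDer.IsCompactObject (E i)) {C Z : D}
    (hC : CohDer.IsCompactObject C) {κ : Type v} {X : κ → D} (p : (∐ X) ⟶ Z)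
    (hX : ∀ k, ∃ i n, Nonempty (X k ≅ (E i)⟦(n : ℤ)⟧)) (c : C ⟶ ∐ X) : Fac E (c ≫ p) := by
  classical
  obtain ⟨x, rfl⟩ := (hC κ X).2 c
  induction x using DirectSum.induction_on with
  | zero => rw [map_zero, zero_comp]; exact fac_zero hc
  | of k f =>
    obtain ⟨i, n, ⟨e⟩⟩ := hX k
    refine ⟨{i}, Finset.singleton_nonempty i, (E i)⟦n⟧, f ≫ e.hom, e.inv ≫ Sigma.ι X k ≫ p,
      envC_shift ⟨le_triangEnvelope _ _ ⟨i, Finset.mem_singleton_self i, rfl⟩, hc i⟩ n, ?_⟩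
    rw [homSum_of]
    simp
  | add x y hx hy => rw [map_add, Preadditive.add_comp]; exact fac_add hx hy

theorem fac_of_system (hc : ∀ i, CohDer.IsCompactObject (E i)) (K : ℕ → D)
    (f : ∀ n, K n ⟶ K (n + 1))
    (h0 : ∃ (κ : Type v) (a : κ → ι) (m : κ → ℤ),
      Nonempty (K 0 ≅ ∐ (fun k => (shiftFunctor D (m k)).obj (E (a k)))))
    (hstep : ∀ n, ∃ (κ : Type v) (a : κ → ι) (m : κ → ℤ)
      (y : (∐ fun k => (shiftFunctor D (m k)).obj (E (a k))) ⟶ K n)
      (z : K (n + 1) ⟶ (shiftFunctor D (1 : ℤ)).obj (∐ fun k => (shiftFunctor D (m k)).obj (E (a k)))),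
      Triangle.mk y (f n) z ∈ distinguishedTriangles)
    (C : D) (hC : CohDer.IsCompactObject C) (n : ℕ) (φ : C ⟶ K n) : Fac E φ := by
  classical
  induction n generalizing C with
  | zero =>
    obtain ⟨κ, a, m, ⟨e⟩⟩ := h0
    have := fac_sigma hc hC (X := fun k => (E (a k))⟦m k⟧) e.inv
      (fun k => ⟨a k, m k, ⟨Iso.refl _⟩⟩) (φ ≫ e.hom)
    rwa [Category.assoc, Iso.hom_inv_id, Category.comp_id] at this
  | succ n ih =>
    obtain ⟨κ, a, m, y, z, hT⟩ := hstep n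
    let X : κ → D := fun k => (E (a k))⟦m k⟧
    have : IsIso (sigmaComparison (shiftFunctor D (1 : ℤ)) X) := inferInstance
    obtain ⟨s, hs, W, c, u, hW, hcu⟩ := fac_sigma hc hC (sigmaComparison (shiftFunctor D (1 : ℤ)) X)
      (fun k => ⟨a k, m k + 1, ⟨((shiftFunctorAdd D (m k) 1).app (E (a k))).symm⟩⟩)
      (φ ≫ z ≫ inv (sigmaComparison (shiftFunctor D (1 : ℤ)) X))
    replace hcu : c ≫ u = φ ≫ z := by simpa using hcu
    -- fibre of `c`
    obtain ⟨C₀, α, β, hF⟩ := distinguished_cocone_triangle₁ c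
    have hF' := inv_rot_of_distTriang _ hF
    have hC₀ : CohDer.IsCompactObject C₀ :=
      isCompactObject_ext₂ _ hF' (isCompactObject_shift hW.2 (-1)) hC
    have hαc : α ≫ c = 0 := comp_distTriang_mor_zero₁₂ _ hF
    obtain ⟨ψ, hψ⟩ : ∃ ψ : C₀ ⟶ K n, α ≫ φ = ψ ≫ f n :=
      Triangle.coyoneda_exact₂ _ (rot_of_distTriang _ hT) (α ≫ φ)
        (show (α ≫ φ) ≫ z = 0 by rw [Category.assoc, ← hcu, reassoc_of% hαc, zero_comp])
    obtain ⟨s', hs', E₀, a₀, b₀, hE₀, hab⟩ := ih C₀ hC₀ ψ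
    let δ : W⟦(-1 : ℤ)⟧ ⟶ C₀ := (Triangle.mk α c β).invRotate.mor₁
    have hδα : δ ≫ α = 0 := comp_distTriang_mor_zero₁₂ _ hF'
    obtain ⟨E₁, j, k', hE₁⟩ := distinguished_cocone_triangle (δ ≫ a₀)
    have hsub := Finset.subset_union_left (s₁ := s) (s₂ := s')
    have hE₁' : EnvC E (s ∪ s') E₁ := envC_ext₃ (hs.mono hsub) _ hE₁
      ((envC_shift hW (-1)).mono hsub) (hE₀.mono Finset.subset_union_right)
    obtain ⟨g, hg⟩ : ∃ g : C ⟶ E₁, a₀ ≫ j = α ≫ g :=
      Triangle.yoneda_exact₂ _ hF' (a₀ ≫ j) (by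
        show δ ≫ a₀ ≫ j = 0
        rw [← Category.assoc]
        exact comp_distTriang_mor_zero₁₂ _ hE₁)
    obtain ⟨h, hh⟩ : ∃ h : E₁ ⟶ K (n + 1), b₀ ≫ f n = j ≫ h :=
      Triangle.yoneda_exact₂ _ hE₁ (b₀ ≫ f n) (by
        show (δ ≫ a₀) ≫ b₀ ≫ f n = 0
        rw [Category.assoc, reassoc_of% hab, ← hψ, reassoc_of% hδα, zero_comp])
    obtain ⟨d, hd⟩ : ∃ d : W ⟶ K (n + 1), φ - g ≫ h = c ≫ d :=
      Triangle.yoneda_exact₂ _ hF (φ - g ≫ h) (by
        show α ≫ (φ - g ≫ h) = 0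
        rw [Preadditive.comp_sub, ← reassoc_of% hg, ← hh, reassoc_of% hab, hψ, sub_self])
    rw [← sub_add_cancel φ (g ≫ h), hd]
    exact fac_add ⟨s, hs, W, c, d, hW, rfl⟩
      ⟨s ∪ s', hs.mono hsub, E₁, g, h, hE₁', rfl⟩

theorem s1076 (hc : ∀ i, CohDer.IsCompactObject (E i)) (K : ℕ → D)
    (f : ∀ n, K n ⟶ K (n + 1))
    (h0 : ∃ (κ : Type v) (a : κ → ι) (m : κ → ℤ),
      Nonempty (K 0 ≅ ∐ (fun k => (shiftFunctor D (m k)).obj (E (a k)))))
    (hstep : ∀ n, ∃ (κ : Type v) (a : κ → ι) (m : κ → ℤ)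
      (y : (∐ fun k => (shiftFunctor D (m k)).obj (E (a k))) ⟶ K n)
      (z : K (n + 1) ⟶ (shiftFunctor D (1 : ℤ)).obj (∐ fun k => (shiftFunctor D (m k)).obj (E (a k)))),
      Triangle.mk y (f n) z ∈ distinguishedTriangles)
    (C : D) (hC : CohDer.IsCompactObject C) (n : ℕ) (φ : C ⟶ K n) :
    ∃ (s : Finset ι) (E' : D) (g : C ⟶ E') (h : E' ⟶ K n),
      ObjectProperty.triangEnvelope (fun Y : D => ∃ i ∈ s, Y = E i) E' ∧ g ≫ h = φ := by
  obtain ⟨s, -, W, g, h, hW, e⟩ := fac_of_system hc K f h0 hstep C hC n φ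
  exact ⟨s, W, g, h, hW.1, e⟩

section telescope

variable [HasColimitsOfShape (Discrete ℕ) D]

/-- a compact object maps into a telescope through a finite stage -/
lemma exists_stage {K : ℕ → D} (f : ∀ n, K n ⟶ K (n + 1)) {X : D} (q : (∐ K) ⟶ X)
    (δ : X ⟶ (∐ K)⟦(1 : ℤ)⟧)
    (hT : Triangle.mk (𝟙 _ - Sigma.desc fun n => f n ≫ Sigma.ι K (n + 1)) q δ ∈ distTriang D)
    {C : D} (hC : CohDer.IsCompactObject C) (v : C ⟶ X) :
    ∃ (n : ℕ) (w : C ⟶ K n), v = w ≫ Sigma.ι K n ≫ q := by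
  classical
  let K' : ULift.{v} ℕ → D := fun m => K m.down
  let φ : ∐ K ⟶ ∐ K' := Sigma.desc fun m => Sigma.ι K' ⟨m⟩
  let φ' : ∐ K' ⟶ ∐ K := Sigma.desc fun m => Sigma.ι K m.down
  have hφ : φ ≫ φ' = 𝟙 _ := Sigma.hom_ext _ _ fun n => by simp [φ, φ', K']
  let σ : ∐ K ⟶ ∐ K := Sigma.desc fun n => f n ≫ Sigma.ι K (n + 1)
  have hσ : ∀ n, Sigma.ι K n ≫ σ = f n ≫ Sigma.ι K (n + 1) := fun n => Sigma.ι_desc _ _
  have hq : ∀ n, Sigma.ι K n ≫ q = f n ≫ Sigma.ι K (n + 1) ≫ q := fun n => by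
    have h : (𝟙 _ - σ) ≫ q = 0 := comp_distTriang_mor_zero₁₂ _ hT
    have := congrArg (fun t => Sigma.ι K n ≫ t) h
    simpa [Preadditive.sub_comp, Preadditive.comp_sub, reassoc_of% (hσ n), sub_eq_zero] using this
  have hmono : ∀ t : C⟦(-1 : ℤ)⟧ ⟶ ∐ K, t ≫ (𝟙 _ - σ) = 0 → t = 0 := by
    intro t ht
    obtain ⟨x, hx⟩ := (isCompactObject_shift hC (-1) _ K').2 (t ≫ φ)
    have ht' : t = t ≫ σ := sub_eq_zero.1 (by simpa [Preadditive.comp_sub] using ht)
    -- the component at `n` of a map into `∐ K'`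
    let pr : ∀ n, (∐ K) ⟶ K n := fun n => Sigma.desc fun m =>
      if h : m = n then eqToHom (by rw [h]) else 0
    have hpr : ∀ n, Sigma.ι K n ≫ pr n = 𝟙 _ := fun n => by simp [pr]
    have hpr' : ∀ n m, m ≠ n → Sigma.ι K m ≫ pr n = 0 := fun n m h => by simp [pr, h]
    have hcomp : ∀ n, t ≫ pr n = 0 := by
      intro n
      induction n with
      | zero =>
        have : σ ≫ pr 0 = 0 := Sigma.hom_ext _ _ fun m => by
          rw [reassoc_of% (hσ m), hpr' 0 (m + 1) (by simp)]; simp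
        rw [ht', Category.assoc, this, comp_zero]
      | succ n ih =>
        have : σ ≫ pr (n + 1) = pr n ≫ f n := Sigma.hom_ext _ _ fun m => by
          rw [reassoc_of% (hσ m)]
          by_cases h : m = n
          · subst h; rw [hpr, reassoc_of% (hpr m)]; simp
          · rw [hpr' (n + 1) (m + 1) (by simpa using h), reassoc_of% (hpr' n m h)]; simp
        rw [ht', Category.assoc, this, reassoc_of% ih, zero_comp]
    have hx' : t = CohDer.homSumToHomCoprod _ K' x ≫ φ' := by rw [hx, Category.assoc, hφ, Category.comp_id]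
    have hkey : ∀ (y : DirectSum (ULift.{v} ℕ) fun i => C⟦(-1 : ℤ)⟧ ⟶ K' i) (n : ℕ),
        (CohDer.homSumToHomCoprod _ K' y ≫ φ') ≫ pr n = y ⟨n⟩ := by
      intro y n
      induction y using DirectSum.induction_on with
      | zero => simp
      | of m g =>
        obtain ⟨m⟩ := m
        rw [homSum_of]
        by_cases h : m = n
        · subst h
          simp [φ', hpr, K']
        · rw [DirectSum.of_eq_of_ne _ _ _ (by simpa using Ne.symm h)]
          simp [φ', hpr' n m h, K']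
      | add y y' hy hy' => simp only [map_add, Preadditive.add_comp, hy, hy']; rfl
    have hx0 : x = 0 := DFinsupp.ext fun m => by
      rw [← hkey x m.down, ← hx', hcomp]; rfl
    rw [hx', hx0, map_zero, zero_comp]
  have hv : v ≫ δ = 0 := by
    have h31 : δ ≫ (𝟙 _ - σ)⟦(1 : ℤ)⟧' = 0 := comp_distTriang_mor_zero₃₁ _ hT
    let e := shiftFunctorCompIsoId D (1 : ℤ) (-1) (by lia)
    apply (shiftFunctor D (-1 : ℤ)).map_injective
    rw [Functor.map_zero, ← cancel_mono (e.hom.app (∐ K)), zero_comp]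
    refine hmono _ ?_
    have hnat : ((𝟙 _ - σ)⟦(1 : ℤ)⟧')⟦(-1 : ℤ)⟧' ≫ e.hom.app _ = e.hom.app _ ≫ (𝟙 _ - σ) :=
      e.hom.naturality _
    rw [Category.assoc, ← hnat, ← Functor.map_comp_assoc, Category.assoc, h31]
    simp
  obtain ⟨w, hw⟩ := Triangle.coyoneda_exact₃ _ hT v hv
  change C ⟶ ∐ K at w
  change v = w ≫ q at hw
  obtain ⟨x, hx⟩ := (hC _ K').2 (w ≫ φ)
  have hw' : w = CohDer.homSumToHomCoprod _ K' x ≫ φ' := by
    rw [hx, Category.assoc, hφ, Category.comp_id]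
  subst hw' hw
  clear hx hv
  have raise : ∀ n k (g : C ⟶ K n), ∃ g' : C ⟶ K (n + k), g ≫ Sigma.ι K n ≫ q = g' ≫ Sigma.ι K (n + k) ≫ q := by
    intro n k g
    induction k with
    | zero => exact ⟨g, rfl⟩
    | succ k ih =>
      obtain ⟨g', hg'⟩ := ih
      exact ⟨g' ≫ f (n + k), by rw [hg', hq (n + k), Category.assoc]; rfl⟩
  induction x using DirectSum.induction_on with
  | zero => exact ⟨0, 0, by simp⟩
  | of m g => exact ⟨m.down, g, by rw [homSum_of]; simp [φ', K']⟩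
  | add x y hx hy =>
    obtain ⟨n, g, hg⟩ := hx
    obtain ⟨m, g', hg'⟩ := hy
    obtain ⟨p, hp⟩ := raise n m g
    obtain ⟨p', hp'⟩ := raise m n g'
    have e : m + n = n + m := add_comm m n
    have he : ∀ {a b : ℕ} (h : a = b) (w : C ⟶ K a),
        w ≫ Sigma.ι K a ≫ q = (w ≫ eqToHom (congrArg K h)) ≫ Sigma.ι K b ≫ q := by
      rintro a b rfl w; simp
    refine ⟨n + m, p + p' ≫ eqToHom (congrArg K e), ?_⟩
    rw [map_add, Preadditive.add_comp, Preadditive.add_comp, hg, hg', hp, hp', he e p',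
      Preadditive.add_comp]

end telescope

section classical

variable [HasColimitsOfShape (Discrete ℕ) D]

/-- a compact object lies in the envelope of a compact generator -/
lemma envelope_of_generates (G : D) (hG : CohDer.IsCompactObject G)
    (hgen : CohDer.Generates (fun _ : PUnit.{v+1} => G)) (X : D) (hX : CohDer.IsCompactObject X) :
    ObjectProperty.triangEnvelope (fun Y : D => Y = G) X := by
  classical
  let E₁ : PUnit.{v+1} → D := fun _ => G
  let J₀ : Type v := Σ n : ℤ, (G⟦n⟧ ⟶ X)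
  let S : ℕ → Σ K : D, K ⟶ X := fun n => Nat.rec
    ⟨∐ fun j : J₀ => G⟦j.1⟧, Sigma.desc fun j => j.2⟩
    (fun _ P =>
      let J : Type v := Σ n : ℤ, { g : G⟦n⟧ ⟶ P.1 // g ≫ P.2 = 0 }
      let y : (∐ fun j : J => G⟦j.1⟧) ⟶ P.1 := Sigma.desc fun j => j.2.1
      have h := distinguished_cocone_triangle y
      have hu : ∃ u : h.choose ⟶ X, P.2 = h.choose_spec.choose ≫ u :=
        Triangle.yoneda_exact₂ _ h.choose_spec.choose_spec.choose_spec P.2 (by
          refine Sigma.hom_ext _ _ fun j => ?_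
          show Sigma.ι (fun j : J => G⟦j.1⟧) j ≫ y ≫ P.2 = _
          rw [Sigma.ι_desc_assoc]
          exact j.2.2.trans comp_zero.symm)
      ⟨h.choose, hu.choose⟩) n
  let K : ℕ → D := fun n => (S n).1
  let u : ∀ n, K n ⟶ X := fun n => (S n).2
  have hS : ∀ n, ∃ (f : K n ⟶ K (n + 1)),
      (∃ (κ : Type v) (a : κ → PUnit.{v+1}) (m : κ → ℤ)
        (y : (∐ fun k => (shiftFunctor D (m k)).obj (E₁ (a k))) ⟶ K n)
        (z : K (n + 1) ⟶ (shiftFunctor D (1 : ℤ)).obj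
          (∐ fun k => (shiftFunctor D (m k)).obj (E₁ (a k)))),
        Triangle.mk y f z ∈ distinguishedTriangles) ∧
      f ≫ u (n + 1) = u n ∧ ∀ (m : ℤ) (g : G⟦m⟧ ⟶ K n), g ≫ u n = 0 → g ≫ f = 0 := by
    intro n
    let J : Type v := Σ m : ℤ, { g : G⟦m⟧ ⟶ K n // g ≫ u n = 0 }
    let y : (∐ fun j : J => G⟦j.1⟧) ⟶ K n := Sigma.desc fun j => j.2.1
    have h := distinguished_cocone_triangle y
    refine ⟨h.choose_spec.choose, ⟨J, fun _ => PUnit.unit, fun j => j.1, y, _,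
      h.choose_spec.choose_spec.choose_spec⟩, ?_, fun m g hg => ?_⟩
    · symm
      dsimp only [u, S]
      exact Exists.choose_spec (p := fun t : h.choose ⟶ X => u n = h.choose_spec.choose ≫ t) _
    · have h0 : y ≫ h.choose_spec.choose = 0 :=
        comp_distTriang_mor_zero₁₂ _ h.choose_spec.choose_spec.choose_spec
      have h1 : Sigma.ι (fun j : J => G⟦j.1⟧) ⟨m, g, hg⟩ ≫ y = g := Sigma.ι_desc _ _
      rw [← h1, Category.assoc, h0, comp_zero]
  choose f hstep hcompat hkill using hS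
  have h0 : ∃ (κ : Type v) (a : κ → PUnit.{v+1}) (m : κ → ℤ),
      Nonempty (K 0 ≅ ∐ (fun k => (shiftFunctor D (m k)).obj (E₁ (a k)))) :=
    ⟨J₀, fun _ => PUnit.unit, fun j => j.1, ⟨Iso.refl _⟩⟩
  let σ : ∐ K ⟶ ∐ K := Sigma.desc fun n => f n ≫ Sigma.ι K (n + 1)
  obtain ⟨Xω, q, δ, hT⟩ := distinguished_cocone_triangle (𝟙 _ - σ)
  obtain ⟨w, hw⟩ : ∃ w : Xω ⟶ X, Sigma.desc u = q ≫ w :=
    Triangle.yoneda_exact₂ _ hT (Sigma.desc u) (by
      suffices h : (𝟙 (∐ K) - σ) ≫ Sigma.desc u = 0 from h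
      refine Sigma.hom_ext _ _ fun n => ?_
      simp [σ, Preadditive.sub_comp, Preadditive.comp_sub, hcompat n])
  have hqw : ∀ n, Sigma.ι K n ≫ q ≫ w = u n := fun n => by rw [← hw, Sigma.ι_desc]
  have hιq : ∀ n, Sigma.ι K n ≫ q = f n ≫ Sigma.ι K (n + 1) ≫ q := fun n => by
    have h : (𝟙 _ - σ) ≫ q = 0 := comp_distTriang_mor_zero₁₂ _ hT
    have := congrArg (fun t => Sigma.ι K n ≫ t) h
    simpa [σ, Preadditive.sub_comp, Preadditive.comp_sub, sub_eq_zero] using this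
  let A : Brown.Pt (preadditiveYoneda.obj X) := ⟨Xω, w⟩
  let B : Brown.Pt (preadditiveYoneda.obj X) := ⟨X, 𝟙 X⟩
  have hbij : ∀ (m : ℤ), Function.Bijective fun t : G⟦m⟧ ⟶ Xω => t ≫ w := by
    intro m
    refine ⟨fun t t' h => ?_, fun t => ?_⟩
    · rw [← sub_eq_zero]
      have hz : (t - t') ≫ w = 0 := by rw [Preadditive.sub_comp, sub_eq_zero]; exact h
      generalize t - t' = r at hz ⊢
      obtain ⟨n, g, rfl⟩ := exists_stage f q δ hT (isCompactObject_shift hG m) r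
      rw [Category.assoc, Category.assoc, hqw] at hz
      rw [hιq, reassoc_of% (hkill n m g hz), zero_comp]
    · refine ⟨Sigma.ι (fun j : J₀ => G⟦j.1⟧) ⟨m, t⟩ ≫ Sigma.ι K 0 ≫ q, ?_⟩
      show (_ ≫ _ ≫ q) ≫ w = t
      rw [Category.assoc, Category.assoc, hqw]
      exact Sigma.ι_desc (fun j : J₀ => j.2) ⟨m, t⟩
  have : IsIso w := Brown.isIso_of_isUniversal (E := Brown.shifts E₁)
    (Brown.exists_shifts_neg E₁) (fun _ h => Brown.eq_zero_shifts E₁ hgen h)
    (A := A) (B := B) (fun k => hbij k.2)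
    (fun k => by
      show Function.Bijective fun t : Brown.shifts E₁ k ⟶ X => t ≫ 𝟙 X
      simp only [Category.comp_id]; exact Function.bijective_id)
    w (Category.comp_id w)
  obtain ⟨n, g, hg⟩ := exists_stage f q δ hT hX (inv w)
  obtain ⟨s, hs, W, a, b, hW, rfl⟩ :=
    fac_of_system (E := E₁) (fun _ => hG) K f h0 hstep X hX n g
  have hle : finFam E₁ s ≤ (fun Y : D => Y = G) := fun Y ⟨i, _, e⟩ => e
  exact ObjectProperty.prop_of_retract _
    (Retract.mk a (b ≫ Sigma.ι K n ≫ q ≫ w) (by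
      have := congrArg (fun t => t ≫ w) hg
      simpa using this.symm))
    (monotone_triangEnvelope hle _ hW.1)

theorem s0978 (G : D) (hG : CohDer.IsCompactObject G) :
    CohDer.Generates (fun _ : Unit => G) ↔ (CohDer.IsCompactlyGenerated D ∧
      ∀ X : D, CohDer.IsCompactObject X → ObjectProperty.triangEnvelope (fun Y : D => Y = G) X) := by
  constructor
  · intro h
    have h' : CohDer.Generates (fun _ : PUnit.{v+1} => G) :=
      fun K hK => h K fun _ n t => hK PUnit.unit n t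
    exact ⟨⟨PUnit.{v+1}, fun _ => G, fun _ => hG, h'⟩, fun X hX => envelope_of_generates G hG h' X hX⟩
  · rintro ⟨⟨κ, S, hS, hgen⟩, henv⟩ K hK
    refine hgen K fun i n t => ?_
    let P : ObjectProperty D := fun Z => ∃ m : ℤ, Nonempty (Z ≅ K⟦m⟧)
    have : P.IsStableUnderShift ℤ := ⟨fun a => ⟨fun Z ⟨m, ⟨e⟩⟩ => ⟨m + a,
      ⟨(shiftFunctor D a).mapIso e ≪≫ ((shiftFunctorAdd D m a).app K).symm⟩⟩⟩⟩
    have : P.leftOrthogonal.IsStableUnderRetracts := ⟨fun {X Y} r hY Z v hZ => by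
      rw [← Category.id_comp v, ← r.retract, Category.assoc, hY (r.r ≫ v) hZ, comp_zero]⟩
    have hG' : (fun Y : D => Y = G) ≤ P.leftOrthogonal := by
      rintro Y rfl Z v ⟨m, ⟨e⟩⟩
      rw [← cancel_mono e.hom, zero_comp]
      exact hK () m _
    exact triangEnvelope_le_iff _ |>.2 hG' (S i) (henv _ (hS i)) t ⟨n, ⟨Iso.refl _⟩⟩

end classical

end Groth.Agent.CohDerTri
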