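import Mathlib.CategoryTheory.Triangulated.Orthogonal
import Mathlib.CategoryTheory.Adjunction.Comma

/-!
Helper lemmas on (pre)triangulated categories: orthogonals, compact objects, idempotents.
-/

set_option autoImplicit false
set_option linter.unusedSectionVars false
set_option linter.unusedSimpArgs false
universe v u v' u'

namespace Groth.Agent.CohDerTri

open CategoryTheory Limits Pretriangulated Triangulated ZeroObject ObjectProperty


variable {D : Type u} [Category.{v} D] [Preadditive D] [HasZeroObject D] [HasShift D ℤ]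
    [∀ n : ℤ, (shiftFunctor D n).Additive] [Pretriangulated D]

lemma extensionProduct_swap (P Q : ObjectProperty D)
    (h : ∀ (A B : D) (f : B ⟶ A⟦(1 : ℤ)⟧), P A → Q B → f = 0) :
    extensionProduct P Q ≤ extensionProduct Q P := by
  intro X ⟨A, B, f, g, k, hT, hA, hB⟩
  obtain ⟨e, -, -⟩ := exists_iso_binaryBiproduct_of_distTriang _ hT (h _ _ k hA hB)
  exact (extensionProduct Q P).prop_of_iso (e ≪≫ biprod.braiding A B).symm
    ⟨B, A, _, _, _, binaryBiproductTriangle_distinguished B A, hB, hA⟩

lemma isTriangulated_extensionProduct [IsTriangulated D] (P Q : ObjectProperty D)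
    [P.IsTriangulated] [Q.IsTriangulated]
    (h : ∀ (A B : D) (f : B ⟶ A⟦(1 : ℤ)⟧), Q A → P B → f = 0) :
    (extensionProduct P Q).IsTriangulated where
  toContainsZero := ⟨0, isZero_zero D, by
    obtain ⟨Z, hZ, hP⟩ := P.exists_prop_of_containsZero
    exact (extensionProduct P Q).prop_of_iso (hZ.isoZero) (P.le_isoClosure _ hP |> fun _ => le_extensionProduct_left Q _ hP)⟩
  toIsTriangulatedClosed₂ := .mk' fun T hT h₁ h₃ => by
    have key : extensionProduct (extensionProduct P Q) (extensionProduct P Q) ≤ extensionProduct P Q := by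
      calc extensionProduct (extensionProduct P Q) (extensionProduct P Q)
          = extensionProduct P (extensionProduct (extensionProduct Q P) Q) := by
            rw [extensionProduct_assoc, ← extensionProduct_assoc (P := Q)]
        _ ≤ extensionProduct P (extensionProduct (extensionProduct P Q) Q) :=
            monotone_extensionProduct_right _ (monotone_extensionProduct_left _ (extensionProduct_swap _ _ h))
        _ = extensionProduct (extensionProduct P P) (extensionProduct Q Q) := by
            simp only [extensionProduct_assoc]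
        _ ≤ extensionProduct P.isoClosure Q.isoClosure :=
            (monotone_extensionProduct_left _ (extensionProduct_le_of_isTriangulatedClosed₂' le_rfl le_rfl)).trans
              (monotone_extensionProduct_right _ (extensionProduct_le_of_isTriangulatedClosed₂' le_rfl le_rfl))
        _ = extensionProduct P Q := by rw [extensionProduct_isoClosure_left, extensionProduct_isoClosure_right]
    exact key _ ⟨_, _, _, _, _, hT, h₁, h₃⟩

theorem s0976 [IsTriangulated D] (P : ObjectProperty D) [P.IsTriangulated] : ObjectProperty.IsTriangulated (fun X : D => ∃ (A B : D) (f : A ⟶ X) (g : X ⟶ B) (h : B ⟶ (shiftFunctor D (1 : ℤ)).obj A), Triangle.mk f g h ∈ distinguishedTriangles ∧ P A ∧ P.rightOrthogonal B) :=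
  isTriangulated_extensionProduct P P.rightOrthogonal
    (fun _ _ f hA hB => (P.rightOrthogonal.le_shift (1 : ℤ) _ hA) f hB)

theorem s6607 [IsTriangulated D] (B : ObjectProperty D) [B.IsTriangulated] : ObjectProperty.IsTriangulated (fun X : D => ∃ (A Y : D) (f : A ⟶ X) (g : X ⟶ Y) (h : Y ⟶ (shiftFunctor D (1 : ℤ)).obj A), Triangle.mk f g h ∈ distinguishedTriangles ∧ B Y ∧ B.leftOrthogonal A) := by
  have := isTriangulated_extensionProduct B.leftOrthogonal B
    (fun _ _ f hA hB => hB f (B.le_shift (1 : ℤ) _ hA))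
  convert this using 1
  ext X
  simp only [extensionProduct_iff]
  aesop

lemma inj_comp_of_inv' (T : Triangle D) (hT : T ∈ distinguishedTriangles) {A : D}
    (h : ∀ u : A ⟶ T.obj₃⟦(-1 : ℤ)⟧, u = 0) :
    Function.Injective (fun u : A ⟶ T.obj₁ => u ≫ T.mor₁) := by
  intro u u' huu
  dsimp at huu
  obtain ⟨e, he⟩ := Triangle.coyoneda_exact₂ _ (inv_rot_of_distTriang T hT) (u - u')
    (show (u - u') ≫ T.mor₁ = 0 by rw [Preadditive.sub_comp, huu, sub_self])
  obtain rfl : e = 0 := h e
  exact sub_eq_zero.1 (he.trans zero_comp)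

theorem s0490 (P : ObjectProperty D) [P.IsTriangulated] : P.ι.IsLeftAdjoint ↔ ∀ X : D, ∃ (A B : D) (f : A ⟶ X) (g : X ⟶ B) (h : B ⟶ (shiftFunctor D (1 : ℤ)).obj A), Triangle.mk f g h ∈ distinguishedTriangles ∧ P A ∧ P.rightOrthogonal B := by
  constructor
  · intro h X
    let adj := Adjunction.ofIsLeftAdjoint P.ι
    obtain ⟨B, g, k, hT⟩ := distinguished_cocone_triangle (adj.counit.app X)
    refine ⟨_, B, _, g, k, hT, (P.ι.rightAdjoint.obj X).property, fun A f hA => ?_⟩
    have bij : ∀ (A' : D), P A' → Function.Bijective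
        (fun u : A' ⟶ (P.ι.rightAdjoint.obj X).obj => u ≫ adj.counit.app X) := by
      intro A' hA'
      refine ⟨fun u u' huu => ?_, fun v => ?_⟩
      · exact congrArg InducedCategory.Hom.hom ((adj.homEquiv ⟨A', hA'⟩ X).symm.injective
          (a₁ := P.homMk (X := ⟨A', hA'⟩) (Y := P.ι.rightAdjoint.obj X) u)
          (a₂ := P.homMk (X := ⟨A', hA'⟩) (Y := P.ι.rightAdjoint.obj X) u')
          (by simp only [Adjunction.homEquiv_counit]; exact huu))
      · refine ⟨((adj.homEquiv ⟨A', hA'⟩ X) v).hom, ?_⟩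
        have := (adj.homEquiv ⟨A', hA'⟩ X).symm_apply_apply v
        rw [Adjunction.homEquiv_counit] at this
        exact this
    have h0 : f ≫ k = 0 := by
      let i := (shiftFunctorCompIsoId D (-1 : ℤ) 1 (by lia)).app A
      obtain ⟨l, hl⟩ := (shiftFunctor D (1 : ℤ)).map_surjective (i.hom ≫ f ≫ k)
      have : l = 0 := (bij _ (P.le_shift (-1 : ℤ) _ hA)).1 <| by
        dsimp
        rw [zero_comp]
        apply (shiftFunctor D (1 : ℤ)).map_injective
        have h31 : k ≫ (adj.counit.app X)⟦(1 : ℤ)⟧' = 0 := comp_distTriang_mor_zero₃₁ _ hT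
        rw [Functor.map_comp, hl, Functor.map_zero, Category.assoc, Category.assoc, h31, comp_zero,
          comp_zero]
      rw [← cancel_epi i.hom, ← hl, this, Functor.map_zero, comp_zero]
    obtain ⟨e, he⟩ := Triangle.coyoneda_exact₃ _ hT f h0
    obtain ⟨u, hu⟩ := (bij A hA).2 e
    have h12 : adj.counit.app X ≫ g = 0 := comp_distTriang_mor_zero₁₂ _ hT
    subst hu
    rw [he]
    exact (Category.assoc _ _ _).trans ((congrArg (u ≫ ·) h12).trans comp_zero)
  · intro h
    suffices ∀ X, HasTerminal (CostructuredArrow P.ι X) from isLeftAdjoint_of_costructuredArrowTerminals _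
    intro X
    obtain ⟨A, B, f, g, k, hT, hA, hB⟩ := h X
    have bij (A' : P.FullSubcategory) : Function.Bijective (fun u : A'.obj ⟶ A => u ≫ f) := by
      refine ⟨inj_comp_of_inv' _ hT fun u => (P.rightOrthogonal.le_shift (-1 : ℤ) _ hB) u A'.property, fun v => ?_⟩
      obtain ⟨u, hu⟩ := Triangle.coyoneda_exact₂ _ hT v (hB _ A'.property)
      exact ⟨u, hu.symm⟩
    have T : IsTerminal (CostructuredArrow.mk (S := P.ι) (Y := ⟨A, hA⟩) f) := IsTerminal.ofUniqueHom
      (fun Z => CostructuredArrow.homMk (P.homMk (X := Z.left) (Y := ⟨A, hA⟩) ((bij Z.left).2 Z.hom).choose)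
        ((bij Z.left).2 Z.hom).choose_spec) (fun Z m => by
        apply CostructuredArrow.hom_ext
        ext
        exact (bij Z.left).1 ((CostructuredArrow.w m).trans ((bij Z.left).2 Z.hom).choose_spec.symm))
    exact T.hasTerminal

theorem s6602 [IsTriangulated D] (P : ObjectProperty D) [P.IsTriangulated] : P.ι.IsRightAdjoint ↔ ∀ X : D, ∃ (A B : D) (f : A ⟶ X) (g : X ⟶ B) (h : B ⟶ (shiftFunctor D (1 : ℤ)).obj A), Triangle.mk f g h ∈ distinguishedTriangles ∧ P B ∧ P.leftOrthogonal A := by
  constructor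
  · intro h X
    let adj := Adjunction.ofIsRightAdjoint P.ι
    obtain ⟨A, f, k, hT⟩ := distinguished_cocone_triangle₁ (adj.unit.app X)
    refine ⟨A, _, f, _, k, hT, (P.ι.leftAdjoint.obj X).property, fun B f' hB => ?_⟩
    have bij : ∀ (B' : D), P B' → Function.Bijective
        (fun u : (P.ι.leftAdjoint.obj X).obj ⟶ B' => adj.unit.app X ≫ u) := by
      intro B' hB'
      refine ⟨fun u u' huu => ?_, fun v => ?_⟩
      · exact congrArg InducedCategory.Hom.hom ((adj.homEquiv X ⟨B', hB'⟩).injective
          (a₁ := P.homMk (Y := ⟨B', hB'⟩) (X := P.ι.leftAdjoint.obj X) u)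
          (a₂ := P.homMk (Y := ⟨B', hB'⟩) (X := P.ι.leftAdjoint.obj X) u')
          (by simp only [Adjunction.homEquiv_unit]; exact huu))
      · refine ⟨((adj.homEquiv X ⟨B', hB'⟩).symm v).hom, ?_⟩
        have := (adj.homEquiv X ⟨B', hB'⟩).apply_symm_apply v
        rw [Adjunction.homEquiv_unit] at this
        exact this
    have h0 : k ≫ f'⟦(1 : ℤ)⟧' = 0 := (bij _ (P.le_shift (1 : ℤ) _ hB)).1 <| by
      have h23 : adj.unit.app X ≫ k = 0 := comp_distTriang_mor_zero₂₃ _ hT
      simp [reassoc_of% h23]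
    obtain ⟨e, he⟩ := Triangle.yoneda_exact₂ _ (rot_of_distTriang _ (rot_of_distTriang _ hT))
      (f'⟦(1 : ℤ)⟧') h0
    obtain ⟨l, hl⟩ := (shiftFunctor D (1 : ℤ)).map_surjective (X := X) (Y := B) e
    obtain ⟨u, hu⟩ := (bij B hB).2 l
    have h12 : f ≫ adj.unit.app X = 0 := comp_distTriang_mor_zero₁₂ _ hT
    apply (shiftFunctor D (1 : ℤ)).map_injective
    rw [Functor.map_zero]
    erw [he, ← hl]
    subst hu
    show (-(f⟦(1 : ℤ)⟧')) ≫ (adj.unit.app X ≫ u)⟦(1 : ℤ)⟧' = 0
    rw [Preadditive.neg_comp, ← Functor.map_comp, reassoc_of% h12]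
    simp
  · intro h
    suffices ∀ X, HasInitial (StructuredArrow X P.ι) from isRightAdjointOfStructuredArrowInitials _
    intro X
    obtain ⟨A, B, f, g, k, hT, hB, hA⟩ := h X
    have bij (B' : P.FullSubcategory) : Function.Bijective (fun u : B ⟶ B'.obj => g ≫ u) := by
      refine ⟨fun w w' hw => ?_, fun w => ?_⟩
      · dsimp at hw
        obtain ⟨e, he⟩ := Triangle.yoneda_exact₃ _ hT (w - w')
          (show g ≫ (w - w') = 0 by rw [Preadditive.comp_sub, hw, sub_self])
        obtain rfl : e = 0 := (P.leftOrthogonal.le_shift (1 : ℤ) _ hA) e B'.property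
        exact sub_eq_zero.1 (he.trans comp_zero)
      · obtain ⟨u, hu⟩ := Triangle.yoneda_exact₂ _ hT w (hA _ B'.property)
        exact ⟨u, hu.symm⟩
    have T : IsInitial (StructuredArrow.mk (T := P.ι) (Y := ⟨B, hB⟩) g) := IsInitial.ofUniqueHom
      (fun Z => StructuredArrow.homMk (P.homMk (Y := Z.right) (X := ⟨B, hB⟩) ((bij Z.right).2 Z.hom).choose)
        ((bij Z.right).2 Z.hom).choose_spec) (fun Z m => by
        apply StructuredArrow.hom_ext
        ext
        exact (bij Z.right).1 ((StructuredArrow.w m).trans ((bij Z.right).2 Z.hom).choose_spec.symm))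
    exact T.hasInitial

end Groth.Agent.CohDerTri
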