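import Groth.Agent.CohDerTri.Compact
import Mathlib.CategoryTheory.Triangulated.Functor
import Mathlib.CategoryTheory.Limits.Preserves.Shapes.Products

/-!
A right adjoint preserves coproducts when the left adjoint preserves compact generators.
-/

set_option autoImplicit false
set_option linter.unusedSectionVars false
universe v u u'

namespace Groth.Agent.CohDerTri

open CategoryTheory Limits Pretriangulated CohDer

variable {D : Type u} [Category.{v} D] [Preadditive D] [HasCoproducts.{v} D]
  {D' : Type u'} [Category.{v} D'] [Preadditive D'] [HasCoproducts.{v} D']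

lemma bijective_comp_sigmaComparison {L : D ⥤ D'} {R : D' ⥤ D} [L.Additive] (adj : L ⊣ R) (K : D)
    (hK : IsCompactObject K) (hLK : IsCompactObject (L.obj K)) {κ : Type v} (X : κ → D') :
    Function.Bijective fun f : K ⟶ ∐ (fun i => R.obj (X i)) => f ≫ sigmaComparison R X := by
  classical
  let e : DirectSum κ (fun i => L.obj K ⟶ X i) ≃+ DirectSum κ (fun i => K ⟶ R.obj (X i)) :=
    DFinsupp.mapRange.addEquiv fun i => adj.homAddEquiv K (X i)
  have key : ∀ x, homSumToHomCoprod K (fun i => R.obj (X i)) (e x) ≫ sigmaComparison R X =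
      adj.homEquiv K (∐ X) (homSumToHomCoprod (L.obj K) X x) := by
    intro x
    induction x using DirectSum.induction_on with
    | zero => simp [Adjunction.homAddEquiv_zero]
    | of i f =>
      have he : e (DirectSum.of _ i f) = DirectSum.of (fun i => K ⟶ R.obj (X i)) i (adj.homEquiv K (X i) f) :=
        DFinsupp.mapRange_single (hf := fun j => map_zero (adj.homAddEquiv K (X j)))
      rw [he, homSum_of, homSum_of, Adjunction.homEquiv_naturality_right, Category.assoc, ι_comp_sigmaComparison]
    | add x y hx hy =>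
      show _ = adj.homAddEquiv K (∐ X) _
      simp only [map_add, Preadditive.add_comp]
      rw [Adjunction.homAddEquiv_apply, Adjunction.homAddEquiv_apply, hx, hy]
  refine ⟨fun f g h => ?_, fun φ => ?_⟩
  · obtain ⟨x, rfl⟩ := (hK κ _).2 f
    obtain ⟨y, rfl⟩ := (hK κ _).2 g
    obtain ⟨x, rfl⟩ := e.surjective x
    obtain ⟨y, rfl⟩ := e.surjective y
    change _ ≫ sigmaComparison R X = _ ≫ sigmaComparison R X at h
    rw [key, key] at h
    rw [(hLK κ X).1 ((adj.homEquiv _ _).injective h)]
  · obtain ⟨x, hx⟩ := (hLK κ X).2 ((adj.homEquiv K (∐ X)).symm φ)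
    refine ⟨homSumToHomCoprod K _ (e x), ?_⟩
    show _ ≫ _ = φ
    rw [key, hx, Equiv.apply_symm_apply]

variable [HasZeroObject D] [HasShift D ℤ] [∀ n : ℤ, (shiftFunctor D n).Additive] [Pretriangulated D]
  [HasZeroObject D'] [HasShift D' ℤ] [∀ n : ℤ, (shiftFunctor D' n).Additive] [Pretriangulated D']

theorem preservesCoproducts_rightAdjoint_iff {ι : Type v} (S : ι → D)
    (hSc : ∀ i, IsCompactObject (S i)) (hSg : Generates S) (F : D ⥤ D') [F.CommShift ℤ]
    [F.IsTriangulated] (G : D' ⥤ D) (adj : F ⊣ G) :
    (∀ κ : Type v, PreservesColimitsOfShape (Discrete κ) G) ↔ ∀ i, IsCompactObject (F.obj (S i)) := by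
  refine ⟨fun _ i => isCompactObject_of_adjunction adj (hSc i), fun hFS κ => ?_⟩
  have hiso : ∀ X : κ → D', IsIso (sigmaComparison G X) := fun X => by
    refine (s7881 S hSg _).2 fun i n => ?_
    let a := (shiftEquiv' D (-n) n (by lia)).toAdjunction
    have hb := bijective_comp_sigmaComparison adj ((S i)⟦-n⟧) (isCompactObject_shift (hSc i) (-n))
      (isCompactObject_of_iso ((F.commShiftIso (-n)).app (S i)).symm (isCompactObject_shift (hFS i) (-n))) X
    have h2 := ((a.homEquiv (S i) _).bijective.comp hb).comp (a.homEquiv (S i) _).symm.bijective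
    refine (congrArg Function.Bijective (funext fun g => ?_)).mp h2
    show a.homEquiv _ _ ((a.homEquiv _ _).symm g ≫ sigmaComparison G X) = _
    rw [a.homEquiv_naturality_right, Equiv.apply_symm_apply]
    rfl
  constructor
  intro K
  haveI := hiso (K.obj ∘ Discrete.mk)
  haveI := PreservesCoproduct.of_iso_comparison G (K.obj ∘ Discrete.mk)
  exact preservesColimit_of_iso_diagram G Discrete.natIsoFunctor.symm

end Groth.Agent.CohDerTri
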