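import Mathlib.CategoryTheory.Triangulated.Triangulated
import Mathlib.CategoryTheory.Idempotents.Basic
import Mathlib.CategoryTheory.Preadditive.Opposite
import Mathlib.CategoryTheory.Limits.Opposites
import Mathlib.Tactic.Abel

/-!
Helper lemmas on (pre)triangulated categories: orthogonals, compact objects, idempotents.
-/

set_option autoImplicit false
set_option linter.unusedSectionVars false
set_option linter.unusedSimpArgs false
universe v u v' u'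

namespace Groth.Agent.CohDerTri

open CategoryTheory Limits Pretriangulated Triangulated ZeroObject


variable {D : Type u} [Category.{v} D] [Preadditive D] [HasZeroObject D] [HasShift D ℤ]
    [∀ n : ℤ, (shiftFunctor D n).Additive] [Pretriangulated D]

theorem s0983 [IsTriangulated D] {X Y X' Y' : D} (f : X ⟶ Y) (f' : X' ⟶ Y') (u : X ⟶ X') (v : Y ⟶ Y') (comm : f ≫ v = u ≫ f') : ∃ (Z Z' X'' Y'' Z'' : D) (g : Y ⟶ Z) (h : Z ⟶ (shiftFunctor D (1 : ℤ)).obj X) (g' : Y' ⟶ Z') (h' : Z' ⟶ (shiftFunctor D (1 : ℤ)).obj X') (f'' : X'' ⟶ Y'') (g'' : Y'' ⟶ Z'') (h'' : Z'' ⟶ (shiftFunctor D (1 : ℤ)).obj X'') (u' : X' ⟶ X'') (u'' : X'' ⟶ (shiftFunctor D (1 : ℤ)).obj X) (v' : Y' ⟶ Y'') (v'' : Y'' ⟶ (shiftFunctor D (1 : ℤ)).obj Y) (w : Z ⟶ Z') (w' : Z' ⟶ Z'') (w'' : Z'' ⟶ (shiftFunctor D (1 : ℤ)).obj Z), Triangle.mk f g h ∈ distinguishedTriangles ∧ Triangle.mk f' g' h' ∈ distinguishedTriangles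 ∧ Triangle.mk f'' g'' h'' ∈ distinguishedTriangles ∧ Triangle.mk u u' u'' ∈ distinguishedTriangles ∧ Triangle.mk v v' v'' ∈ distinguishedTriangles ∧ Triangle.mk w w' w'' ∈ distinguishedTriangles ∧ g ≫ w = v ≫ g' ∧ h ≫ (shiftFunctor D (1 : ℤ)).map u = w ≫ h' ∧ f' ≫ v' = u' ≫ f'' ∧ g' ≫ w' = v' ≫ g'' ∧ h' ≫ (shiftFunctor D (1 : ℤ)).map u' = w' ≫ h'' ∧ f'' ≫ v'' = u'' ≫ (shiftFunctor D (1 : ℤ)).map f ∧ g'' ≫ w'' = v'' ≫ (shiftFunctor D (1 : ℤ)).map g ∧ h'' ≫ (shiftFunctor D (1 : ℤ)).map u'' = -(w'' ≫ (shiftFunctor D (1 : ℤ)).map h) := by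
  obtain ⟨Z, g, h, hf⟩ := distinguished_cocone_triangle f
  obtain ⟨Z', g', h', hf'⟩ := distinguished_cocone_triangle f'
  obtain ⟨X'', u', u'', hu⟩ := distinguished_cocone_triangle u
  obtain ⟨Y'', v', v'', hv⟩ := distinguished_cocone_triangle v
  obtain ⟨W, j, k, hc⟩ := distinguished_cocone_triangle (f ≫ v)
  obtain ⟨a, b, a1, a2, a3, a4, m1⟩ := someOctahedron rfl hf hv hc
  obtain ⟨p, q, b1, b2, b3, b4, m2⟩ := someOctahedron comm.symm hu hf' hc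

  obtain ⟨Z'', w', w'', hw⟩ := distinguished_cocone_triangle (a ≫ q)
  obtain ⟨g'', h'', c1, c2, c3, c4, m3⟩ : ∃ (g'' : Y'' ⟶ Z'') (h'' : Z'' ⟶ X''⟦(1 : ℤ)⟧),
      b ≫ g'' = q ≫ w' ∧ g'' ≫ w'' = v'' ≫ g⟦(1 : ℤ)⟧' ∧ w' ≫ h'' = h' ≫ u'⟦(1 : ℤ)⟧' ∧
      w'' ≫ a⟦(1 : ℤ)⟧' = h'' ≫ (-(p⟦(1 : ℤ)⟧')) ∧
      Triangle.mk g'' h'' ((-(p⟦(1 : ℤ)⟧')) ≫ b⟦(1 : ℤ)⟧') ∈ distinguishedTriangles := by
    let o := someOctahedron rfl m1 (rot_of_distTriang _ m2) hw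
    exact ⟨o.m₁, o.m₃, o.comm₁, o.comm₂, o.comm₃, o.comm₄, o.mem⟩
  have hf'' : Triangle.mk (p ≫ b) g'' h'' ∈ distinguishedTriangles := by
    rw [rotate_distinguished_triangle]
    refine isomorphic_distinguished _ m3 _ (Triangle.isoMk _ _ (Iso.refl _) (Iso.refl _) (Iso.refl _) ?_ ?_ ?_)
    · exact (Category.comp_id _).trans (Category.id_comp _).symm
    · exact (Category.comp_id _).trans (Category.id_comp _).symm
    · show (-((p ≫ b)⟦(1 : ℤ)⟧')) ≫ (𝟙 _)⟦(1 : ℤ)⟧' = 𝟙 _ ≫ (-(p⟦(1 : ℤ)⟧')) ≫ b⟦(1 : ℤ)⟧'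
      simp [Functor.map_comp]
  refine ⟨Z, Z', X'', Y'', Z'', g, h, g', h', p ≫ b, g'', h'', u', u'', v', v'',
    a ≫ q, w', w'', hf, hf', hf'', hu, hv, hw, ?_, ?_, ?_, ?_, c3.symm, ?_, c2, ?_⟩
  · rw [reassoc_of% a1, b3]
  · rw [← a2, Category.assoc, b4, Category.assoc]
  · rw [← a3, reassoc_of% b1]
  · rw [← b3, ← a3, Category.assoc, Category.assoc, c1]
  · rw [← b2, Category.assoc, ← a4, Category.assoc]
  · rw [← a2, ← b2, Functor.map_comp, Functor.map_comp, reassoc_of% c4]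
    simp

/-- complements of split monos give splittings of idempotents, by the Eilenberg swindle -/
lemma exists_split_of_idempotent {C : Type u} [Category.{v} C] [Preadditive C] [HasColimitsOfShape (Discrete ℕ) C]
    (H : ∀ {A B : C} (j : A ⟶ B) (r : B ⟶ A), j ≫ r = 𝟙 A →
      ∃ (Q : C) (g : B ⟶ Q) (i : Q ⟶ B), i ≫ g = 𝟙 Q ∧ g ≫ i = 𝟙 B - r ≫ j)
    (X : C) (e : X ⟶ X) (he : e ≫ e = e) : ∃ (Y : C) (i : Y ⟶ X) (p : X ⟶ Y), i ≫ p = 𝟙 Y ∧ p ≫ i = e := by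
  let S := ∐ fun _ : ℕ => X
  let ι : ℕ → (X ⟶ S) := Sigma.ι fun _ : ℕ => X
  let j : S ⟶ S := Sigma.desc fun n => (𝟙 X - e) ≫ ι n + e ≫ ι (n + 1)
  let r : S ⟶ S := Sigma.desc fun n => Nat.casesOn n ((𝟙 X - e) ≫ ι 0) (fun n => (𝟙 X - e) ≫ ι (n + 1) + e ≫ ι n)
  let π : S ⟶ X := Sigma.desc fun n => Nat.casesOn n (𝟙 X) (fun _ => 0)
  have hιj : ∀ n, ι n ≫ j = (𝟙 X - e) ≫ ι n + e ≫ ι (n + 1) := fun n => Sigma.ι_desc _ _
  have hr0 : ι 0 ≫ r = (𝟙 X - e) ≫ ι 0 := Sigma.ι_desc _ _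
  have hr1 : ∀ n, ι (n + 1) ≫ r = (𝟙 X - e) ≫ ι (n + 1) + e ≫ ι n := fun n => Sigma.ι_desc _ _
  have hπ0 : ι 0 ≫ π = 𝟙 X := Sigma.ι_desc _ _
  have hπ1 : ∀ n, ι (n + 1) ≫ π = 0 := fun n => Sigma.ι_desc _ _
  have he' : ∀ {Z : C} (k : X ⟶ Z), e ≫ e ≫ k = e ≫ k := fun k => by rw [← Category.assoc, he]
  have hjr : j ≫ r = 𝟙 S := by
    refine Sigma.hom_ext _ _ fun n => ?_
    show ι n ≫ j ≫ r = ι n ≫ 𝟙 S
    rw [reassoc_of% hιj]
    cases n with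
    | zero => simp [hr0, hr1, Preadditive.sub_comp, Preadditive.comp_sub, he']
    | succ n => simp [hr1, Preadditive.sub_comp, Preadditive.comp_sub, he']
  obtain ⟨Q, g, i, hig, hgi⟩ := H j r hjr
  have hε : ι 0 ≫ g ≫ i = e ≫ ι 0 := by
    rw [hgi, Preadditive.comp_sub, reassoc_of% hr0]
    simp [hιj, Preadditive.sub_comp, Preadditive.comp_sub, he', he]
  refine ⟨Q, i ≫ π, ι 0 ≫ g, ?_, ?_⟩
  · have h2 : g ≫ i ≫ π ≫ ι 0 ≫ g = g := by
      have h3 : g ≫ i ≫ g = g := by rw [hig, Category.comp_id]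
      refine Sigma.hom_ext _ _ fun n => ?_
      show ι n ≫ g ≫ i ≫ π ≫ ι 0 ≫ g = ι n ≫ g
      conv_rhs => rw [← h3, ← Category.assoc g i]
      rw [← Category.assoc g i, hgi]
      cases n with
      | zero => simp [hιj, reassoc_of% hr0, hr0, reassoc_of% hπ0, reassoc_of% hπ1, hπ1, Preadditive.sub_comp, Preadditive.comp_sub, he', reassoc_of% hιj]
      | succ n => simp [hιj, reassoc_of% hr1, hr1, reassoc_of% hπ0, reassoc_of% hπ1, hπ1, Preadditive.sub_comp, Preadditive.comp_sub, he', reassoc_of% hιj]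
    have := congrArg (i ≫ ·) h2
    simpa [reassoc_of% hig, hig] using this
  · rw [← Category.assoc, Category.assoc (ι 0), hε, Category.assoc, hπ0, Category.comp_id]

lemma exists_complement {A B : D} (j : A ⟶ B) (r : B ⟶ A) (hjr : j ≫ r = 𝟙 A) :
    ∃ (Q : D) (g : B ⟶ Q) (i : Q ⟶ B), i ≫ g = 𝟙 Q ∧ g ≫ i = 𝟙 B - r ≫ j := by
  obtain ⟨Q, g, h, hT⟩ := distinguished_cocone_triangle j
  have hjg : j ≫ g = 0 := comp_distTriang_mor_zero₁₂ _ hT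
  have : Mono j := (SplitMono.mk r hjr).mono
  have h0 : h = 0 := Triangle.mor₃_eq_zero_of_mono₁ _ hT this
  have : Epi g := Triangle.epi₂ _ hT h0
  obtain ⟨i, hi'⟩ : ∃ i : Q ⟶ B, 𝟙 B - r ≫ j = g ≫ i := Triangle.yoneda_exact₂ _ hT (𝟙 B - r ≫ j)
    (show j ≫ (𝟙 B - r ≫ j) = 0 by rw [Preadditive.comp_sub, reassoc_of% hjr]; simp)
  refine ⟨Q, g, i, ?_, hi'.symm⟩
  rw [← cancel_epi g, ← Category.assoc, ← hi', Preadditive.sub_comp, Category.assoc, hjg, comp_zero, sub_zero,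
    Category.id_comp, Category.comp_id]

theorem s1079 (h : HasColimitsOfShape (Discrete ℕ) D ∨ HasLimitsOfShape (Discrete ℕ) D) : IsIdempotentComplete D := by
  rcases h with h | h
  · exact ⟨exists_split_of_idempotent exists_complement⟩
  · have : HasColimitsOfShape (Discrete ℕ) Dᵒᵖ := by
      haveI : HasLimitsOfShape (Discrete ℕ)ᵒᵖ D := hasLimitsOfShape_of_equivalence (Discrete.opposite ℕ).symm
      exact hasColimitsOfShape_op_of_hasLimitsOfShape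
    rw [← Idempotents.isIdempotentComplete_iff_opposite]
    refine ⟨exists_split_of_idempotent fun {A B} j r hjr => ?_⟩
    have hjr' : r.unop ≫ j.unop = 𝟙 A.unop := congrArg Quiver.Hom.unop hjr
    obtain ⟨Q, g, i, h1, h2⟩ := exists_complement r.unop j.unop (by exact hjr')
    exact ⟨Opposite.op Q, i.op, g.op, congrArg Quiver.Hom.op h1, by rw [← op_comp, h2]; rfl⟩

end Groth.Agent.CohDerTri
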